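import Groth.Agent.H16Derived.AcyclicLES
import Groth.Agent.H10Coh.DerivedShift

/-!
# Amplitude of derived functors of finite cohomological dimension
-/

set_option autoImplicit false
set_option linter.style.haveILetI false
set_option backward.isDefEq.respectTransparency false
set_option backward.isDefEq.respectTransparency.types false

open CategoryTheory CategoryTheory.Limits

namespace Groth.Agent.H15Site.BCMap

open H16Derived

universe v u u'

variable {A : Type u} [Category.{v} A] [Abelian A] [EnoughInjectives A] [HasInjectiveResolutions A]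
  {B : Type u'} [Category.{v} B] [Abelian B] (F : A ⥤ B) [F.Additive] [PreservesFiniteLimits F]

/-- Above `b + N` the complex `F K` is exact, if `K` consists of acyclic objects, is exact above `b` and
`R^q F` kills its cycles for `q > N`. -/
theorem exactAt_map_of_cdBound (K : CochainComplex A ℤ) (b : ℤ) (N : ℕ)
    (hK : ∀ i, b < i → K.ExactAt i) (hX : ∀ i, AcyclicLES.IsAcyclic F (K.X i))
    (hZ : ∀ q, N < q → IsZero ((F.rightDerived q).obj (K.cycles b))) (i : ℤ) (hi : b + N < i) :
    ((F.mapHomologicalComplex (ComplexShape.up ℤ)).obj K).ExactAt i := by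
  let S (i : ℤ) : ShortComplex A := ShortComplex.mk (K.iCycles i) (K.toCycles i (i + 1)) (by
    rw [← cancel_mono (K.iCycles (i + 1)), Category.assoc, HomologicalComplex.toCycles_i,
      HomologicalComplex.iCycles_d, zero_comp])
  have hS : ∀ j, b ≤ j → (S j).ShortExact := fun j hj => by
    have : Epi (S j).g := by
      have h := (ShortComplex.exact_iff_epi_toCycles ((K.sc' j (j + 1) (j + 1 + 1)))).1
        ((HomologicalComplex.exactAt_iff' K j (j + 1) (j + 1 + 1) (by simp) (by simp)).1 (hK _ (by lia)))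
      have e : K.toCycles j (j + 1) =
          (K.sc' j (j + 1) (j + 1 + 1)).toCycles ≫
            (K.cyclesIsoSc' j (j + 1) (j + 1 + 1) (by simp) (by simp)).inv := by
        rw [← cancel_mono (K.iCycles (j + 1)), HomologicalComplex.toCycles_i]
        erw [Category.assoc, HomologicalComplex.cyclesIsoSc'_inv_iCycles, ShortComplex.toCycles_i]
        rfl
      show Epi (K.toCycles j (j + 1))
      rw [e]
      exact epi_comp' h inferInstance
    have : Mono (S j).f := inferInstanceAs (Mono (K.iCycles j))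
    refine { exact := ?_ }
    refine ShortComplex.exact_of_f_is_kernel _ (KernelFork.IsLimit.ofι' _ _ (fun {W} k hk =>
      ⟨K.liftCycles k (j + 1) (by simp) ?_, K.liftCycles_i _ _ _ _⟩))
    rw [← K.toCycles_i j (j + 1), reassoc_of% (show k ≫ K.toCycles j (j + 1) = 0 from hk), zero_comp]
  have hZk : ∀ k q : ℕ, 0 < q → N < q + k → IsZero ((F.rightDerived q).obj (K.cycles (b + k))) := by
    intro k
    induction k with
    | zero => intro q _ h; rw [Nat.cast_zero, add_zero]; exact hZ q h
    | succ k ih =>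
      intro q hq h
      obtain ⟨m, rfl⟩ := Nat.exists_eq_succ_of_ne_zero hq.ne'
      obtain ⟨e⟩ := H10Coh.nonempty_rightDerived_shift F (hS (b + k) (by lia)) (hX _) m
      rw [show b + ((k + 1 : ℕ) : ℤ) = b + (k : ℤ) + 1 by lia]
      exact (ih (m + 2) (by lia) (by lia)).of_iso e.symm
  obtain ⟨k, rfl⟩ : ∃ k : ℕ, i = b + k + 1 := ⟨(i - b - 1).toNat, by lia⟩
  have hepi : Epi (F.map (K.toCycles (b + k) (b + k + 1))) :=
    AcyclicLES.epi_map_g F (hS (b + k) (by lia)) (hZk k 1 one_pos (by lia))
  let m : ℤ := b + k + 1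
  let S₂ := ShortComplex.mk (F.map (K.d (b + k) m)) (F.map (K.d m (m + 1)))
    (by rw [← F.map_comp, K.d_comp_d, F.map_zero])
  let S₁ := ShortComplex.mk (F.map (K.iCycles m)) (F.map (K.d m (m + 1)))
    (by rw [← F.map_comp, K.iCycles_d, F.map_zero])
  have h1 : S₁.Exact :=
    ShortComplex.exact_of_f_is_kernel _ (KernelFork.mapIsLimit _ (K.cyclesIsKernel m (m + 1) (by simp)) F)
  let φ : S₂ ⟶ S₁ :=
    { τ₁ := F.map (K.toCycles (b + k) m), τ₂ := 𝟙 _, τ₃ := 𝟙 _
      comm₁₂ := by simp [S₂, S₁, ← F.map_comp] }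
  haveI : Epi φ.τ₁ := hepi
  haveI : IsIso φ.τ₂ := inferInstanceAs (IsIso (𝟙 _))
  haveI : Mono φ.τ₃ := inferInstanceAs (Mono (𝟙 _))
  rw [HomologicalComplex.exactAt_iff' _ (b + k) m (m + 1) (by simp [m]) (by simp)]
  exact (ShortComplex.exact_iff_of_epi_of_isIso_of_mono φ).2 h1

end Groth.Agent.H15Site.BCMap
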