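import Groth.Agent.H15Site.BCMap.TorsAlg
import Groth.Agent.H15Site.Shriek.RpushAcyclic
import Groth.Agent.H16Derived.AcyclicLES
import Groth.Prelude.Def_DCoh2
import Mathlib.Algebra.Homology.Factorizations.CM5a

/-!
# Bounded below objects with torsion cohomology have torsion resolutions

A bounded below object of the derived category of abelian etale sheaves with torsion cohomology is represented
by a bounded below complex of torsion sheaves, acyclic for the qcqs direct images: the torsion part of an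
injective resolution.
-/

set_option autoImplicit false
set_option linter.style.haveILetI false
set_option linter.unusedSectionVars false
set_option backward.isDefEq.respectTransparency false
set_option backward.isDefEq.respectTransparency.types false

universe u

open CategoryTheory CategoryTheory.Limits AlgebraicGeometry Opposite
open Groth.Agent.H18Et Groth.Agent.H1Lim Groth.Agent.H1DFun
open scoped Groth.Agent.H18Et Groth.Agent.H18Et.CohColim

namespace Groth.Agent.H15Site.BCMap

attribute [local instance] HasDerivedCategory.standard Groth.Agent.H18Et.pull_preservesFiniteLimits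

variable {X : Scheme.{u}}

/-- The inclusion of the torsion part. -/
noncomputable def torsIncl (F : EtCoh.Ab X) : colimit (torSys F) ⟶ F := colimit.desc (torSys F) (torCocone F)

theorem stalk_torsIncl (F : EtCoh.Ab X) {Ω : Type u} [Field Ω] [IsSepClosed Ω]
    (ξ : Spec (CommRingCat.of Ω) ⟶ X) :
    Function.Injective ((EtCoh.stalk ξ).map (torsIncl F)) ∧
      ∀ p : (EtCoh.stalk ξ).obj F, IsOfFinAddOrder p → ∃ a, (EtCoh.stalk ξ).map (torsIncl F) a = p := by
  haveI := ((Scheme.pointSmallEtale ξ).skyscraperSheafAdjunction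
    (A := AddCommGrpCat.{u + 1})).leftAdjoint_preservesColimits
  have hcs := isColimitOfPreserves (EtCoh.stalk ξ) (colimit.isColimit (torSys F))
  have hd : ∀ l (p : (EtCoh.stalk ξ).obj ((torSys F).obj l)),
      (EtCoh.stalk ξ).map (torsIncl F)
        ((EtCoh.stalk ξ).map (colimit.ι (torSys F) l) p) = (EtCoh.stalk ξ).map (kernel.ι _) p := fun l p => by
    rw [← ConcreteCategory.comp_apply, ← Functor.map_comp]
    erw [colimit.ι_desc]
    rfl
  refine ⟨(injective_iff_map_eq_zero _).2 fun x hx => ?_, fun p hp => ?_⟩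
  · obtain ⟨l, p, hp⟩ := Concrete.isColimit_exists_rep _ hcs x
    replace hp : (EtCoh.stalk ξ).map (colimit.ι (torSys F) l) p = x := hp
    subst hp
    rw [hd] at hx
    have hinj := (AddCommGrpCat.mono_iff_injective _).1
      ((H18Et.mono_iff_stalk (kernel.ι (tExp l • 𝟙 F))).1 inferInstance Ω ξ)
    rw [hinj (hx.trans (map_zero _).symm), map_zero]
  · obtain ⟨m, hm, hmp⟩ := hp.exists_nsmul_eq_zero
    let l : ULift.{u} ℕ := ⟨m⟩
    have hex := (ShortComplex.exact_of_f_is_kernel (ShortComplex.mk _ _ (kernel.condition (tExp l • 𝟙 F)))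
      (kernelIsKernel _)).map (EtCoh.stalk ξ)
    obtain ⟨p', hp'⟩ := (ShortComplex.ab_exact_iff _).1 hex p (by
      refine (stalk_map_nsmul ξ _ p).trans ?_
      obtain ⟨c, hc⟩ : m ∣ tExp l := Nat.dvd_factorial hm (Nat.le_succ m)
      rw [hc, mul_comm, mul_nsmul', hmp, nsmul_zero])
    exact ⟨(EtCoh.stalk ξ).map (colimit.ι (torSys F) l) p', (hd l p').trans hp'⟩

theorem colimMap_torsIncl {F G : EtCoh.Ab X} (φ : F ⟶ G) :
    colimMap (torSysMap φ) ≫ torsIncl G = torsIncl F ≫ φ := colimit.hom_ext fun j => by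
  simp only [torsIncl, ι_colimMap_assoc, colimit.ι_desc, colimit.ι_desc_assoc]
  exact kernel.lift_ι _ _ _

theorem mono_torsIncl (F : EtCoh.Ab X) : Mono (torsIncl F) :=
  (H18Et.mono_iff_stalk _).2 fun _ _ _ ξ => (AddCommGrpCat.mono_iff_injective _).2 (stalk_torsIncl F ξ).1

attribute [local instance] mono_torsIncl

/-- The torsion subcomplex. -/
noncomputable def torsCx (I : CochainComplex (EtCoh.Ab X) ℤ) : CochainComplex (EtCoh.Ab X) ℤ where
  X i := colimit (torSys (I.X i))
  d i j := colimMap (torSysMap (I.d i j))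
  shape i j h := by
    rw [← cancel_mono (torsIncl (I.X j)), colimMap_torsIncl, I.shape i j h, comp_zero, zero_comp]
  d_comp_d' i j k _ _ := by
    rw [← cancel_mono (torsIncl (I.X k)), Category.assoc, colimMap_torsIncl, ← Category.assoc,
      colimMap_torsIncl, Category.assoc, I.d_comp_d, comp_zero, zero_comp]

/-- The inclusion of the torsion subcomplex. -/
noncomputable def torsCxIncl (I : CochainComplex (EtCoh.Ab X) ℤ) : torsCx I ⟶ I where
  f i := torsIncl (I.X i)
  comm' i j _ := (colimMap_torsIncl (I.d i j)).symm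

theorem quasiIso_torsCxIncl (I : CochainComplex (EtCoh.Ab X) ℤ) [∀ i, Injective (I.X i)]
    (hI : ∀ i, EtCoh.IsTorsion (I.homology i)) : QuasiIso (torsCxIncl I) := by
  refine ⟨fun i => ?_⟩
  rw [quasiIsoAt_iff' (torsCxIncl I) (i - 1) i (i + 1) (by simp) (by simp), ShortComplex.quasiIso_iff]
  let S := (torsCx I).sc' (i - 1) i (i + 1)
  let S' := I.sc' (i - 1) i (i + 1)
  let ψ : S ⟶ S' := (HomologicalComplex.shortComplexFunctor' _ _ (i - 1) i (i + 1)).map (torsCxIncl I)
  show IsIso (ShortComplex.homologyMap ψ)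
  rw [H18Et.isIso_iff_stalk]
  intro Ω _ _ ξ
  let Φ := EtCoh.stalk ξ
  have nat := ShortComplex.mapHomologyIso_hom_naturality ψ Φ
  suffices h : IsIso (ShortComplex.homologyMap (Φ.mapShortComplex.map ψ)) by
    haveI : IsIso (ShortComplex.homologyMap (Φ.mapShortComplex.map ψ) ≫ (S'.mapHomologyIso Φ).hom) :=
      inferInstance
    rw [nat] at this
    exact IsIso.of_isIso_comp_left (S.mapHomologyIso Φ).hom _
  have hdiv : ∀ j (n : ℕ), 0 < n → ∀ a : Φ.obj (I.X j), ∃ b, n • b = a := fun j n hn a => by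
    haveI := epi_nsmul_injective (I.X j) n hn.ne'
    obtain ⟨b, hb⟩ := (AddCommGrpCat.epi_iff_surjective _).1
      ((H18Et.epi_iff_stalk (n • 𝟙 (I.X j))).1 inferInstance Ω ξ) a
    exact ⟨b, (stalk_map_nsmul ξ _ b).symm.trans hb⟩
  have hH : ∀ j (a b c : ℤ), (ComplexShape.up ℤ).prev b = a → (ComplexShape.up ℤ).next b = c → b = j →
      ∀ x : ((I.sc' a b c).map Φ).homology, IsOfFinAddOrder x := by
    intro j a b c ha hc hb x
    subst hb
    have h1 := (H18Et.Coh.isTorsion_iff_stalk _).1 (hI b) Ω ξ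
    let e : ((I.sc' a b c).map Φ).homology ≅ Φ.obj (I.homology b) :=
      (I.sc' a b c).mapHomologyIso Φ ≪≫ Φ.mapIso (I.homologyIsoSc' a b c ha hc).symm
    obtain ⟨m, hm, hmx⟩ := isOfFinAddOrder_iff_nsmul_eq_zero.1 (h1 (e.hom x))
    refine isOfFinAddOrder_iff_nsmul_eq_zero.2 ⟨m, hm, e.addCommGroupIsoToAddEquiv.injective ?_⟩
    exact (map_nsmul _ _ _).trans (hmx.trans (map_zero _).symm)
  have htP : ∀ j (a : Φ.obj (colimit (torSys (I.X j)))), IsOfFinAddOrder a := fun j a =>
    (H18Et.Coh.isTorsion_iff_stalk _).1 (isTorsion_colimit_torSys (I.X j)) Ω ξ a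
  have he0 : Φ.map (I.d (i - 2) (i - 1)) ≫ Φ.map (I.d (i - 1) i) = 0 := by
    rw [← Φ.map_comp, I.d_comp_d, Φ.map_zero]
  refine isIso_homologyMap_torsion (S := S.map Φ) (S' := S'.map Φ) (Φ.mapShortComplex.map ψ)
    (X₀ := Φ.obj (I.X (i - 2))) (Φ.map (I.d (i - 2) (i - 1))) he0 (hdiv _) (hdiv _) (fun y hy => ?_)
    (hH i (i - 1) i (i + 1) (by simp) (by simp) rfl) (htP i) (stalk_torsIncl (I.X (i - 1)) ξ).2
    (stalk_torsIncl (I.X i) ξ).2 (stalk_torsIncl (I.X i) ξ).1 (stalk_torsIncl (I.X (i + 1)) ξ).1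
  let T := (I.sc' (i - 2) (i - 1) i).map Φ
  obtain ⟨z, hz⟩ := exists_cycles T y hy
  obtain ⟨k, hk, hkz⟩ := isOfFinAddOrder_iff_nsmul_eq_zero.1
    (hH (i - 1) (i - 2) (i - 1) i (by simp; omega) (by simp) rfl (T.homologyπ z))
  rw [← map_nsmul, homologyπ_eq_zero_iff] at hkz
  obtain ⟨w, hw⟩ := hkz
  refine ⟨k, hk, w, ?_⟩
  rw [map_nsmul, hz] at hw
  exact hw

/-- Torsion resolutions of bounded below objects with torsion cohomology. -/
theorem exists_torsion_resolution (E : DCoh.DEt X) (n : ℤ) [E.IsGE n]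
    (hE : ∀ i : ℤ, EtCoh.IsTorsion (DCoh.HDEt E i)) :
    ∃ K : CochainComplex (EtCoh.Ab X) ℤ, K.IsStrictlyGE n ∧ Nonempty (DerivedCategory.Q.obj K ≅ E) ∧
      (∀ i, EtCoh.IsTorsion (K.X i)) ∧ ∀ {Y : Scheme.{u}} (f : X ⟶ Y) [QuasiCompact f] [QuasiSeparated f]
        (i : ℤ) (q : ℕ), 0 < q → IsZero ((EtCoh.Rpush f q).obj (K.X i)) := by
  obtain ⟨K₀, _, ⟨e₀⟩⟩ := DerivedCategory.exists_iso_Q_obj_of_isGE E n
  obtain ⟨I, s, hs, hinj, hge⟩ := CochainComplex.Plus.modelCategoryQuillen.exists_quasiIso_injective K₀ n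
  haveI : ∀ k, Injective (I.X k) := hinj
  haveI : IsIso (DerivedCategory.Q.map s) :=
    (DerivedCategory.isIso_Q_map_iff_quasiIso _ s).2 inferInstance
  let eI : DerivedCategory.Q.obj I ≅ E := (asIso (DerivedCategory.Q.map s)).symm ≪≫ e₀.symm
  have hI : ∀ i, EtCoh.IsTorsion (I.homology i) := fun i => by
    refine H18Et.Coh.isTorsion_of_iso ?_ (hE i)
    exact ((DerivedCategory.homologyFunctorFactors _ i).app I).symm ≪≫
      (DerivedCategory.homologyFunctor _ i).mapIso eI |>.symm
  haveI := quasiIso_torsCxIncl I hI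
  haveI : IsIso (DerivedCategory.Q.map (torsCxIncl I)) :=
    (DerivedCategory.isIso_Q_map_iff_quasiIso _ _).2 inferInstance
  refine ⟨torsCx I, ?_, ⟨asIso (DerivedCategory.Q.map (torsCxIncl I)) ≪≫ eI⟩,
    fun i => isTorsion_colimit_torSys _, fun f _ _ i q hq => Shriek.isZero_Rpush_colimit_torSys f _ q hq⟩
  rw [CochainComplex.isStrictlyGE_iff]
  intro i hi
  exact IsZero.of_mono (torsIncl (I.X i)) (CochainComplex.isZero_of_isStrictlyGE I n i hi)

end Groth.Agent.H15Site.BCMap

namespace Groth.Agent.H15Site.BCMap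

attribute [local instance] Groth.Agent.H18Et.pull_preservesFiniteLimits

/-- Zero sheaves are torsion. -/
theorem isTorsion_of_isZero {X : Scheme.{u}} {F : EtCoh.Ab X} (hF : IsZero F) : EtCoh.IsTorsion F :=
  H1DFun.isTorsion_of_nsmul_id Nat.one_pos (hF.eq_of_src _ _)

end Groth.Agent.H15Site.BCMap
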