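import Groth.Agent.H15Site.BCMap.Transpose
import Groth.Agent.H15Site.BCMap.TorsRes
import Groth.Agent.H15Site.Shriek.StalkToBCQ
import Groth.Agent.S0157
import Groth.Prelude.Def_EtBCD

/-!
# Derived proper base change from base change on stalks
-/

set_option autoImplicit false
set_option linter.style.haveILetI false
set_option linter.unusedSectionVars false
set_option backward.isDefEq.respectTransparency false
set_option backward.isDefEq.respectTransparency.types false

universe u

open CategoryTheory CategoryTheory.Limits AlgebraicGeometry Opposite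
open scoped Groth.Agent.H18Et

namespace Groth.Agent.H15Site.BCMap

attribute [local instance] HasDerivedCategory.standard

variable {X S X' S' : Scheme.{u}} (f : X ⟶ S) (g : S' ⟶ S) (f' : X' ⟶ S') (g' : X' ⟶ X)

theorem pushToPushPullH_app (w : g' ≫ f = f' ≫ g) (K : CochainComplex (EtCoh.Ab X) ℤ) :
    (EtBC.pushToPushPullH f g f' g' w).app ((HomotopyCategory.quotient _ _).obj K) =
      (HomotopyCategory.quotient _ _).map
        ((NatTrans.mapHomologicalComplex (EtBC.pushToPushPull f g f' g' w) (ComplexShape.up ℤ)).app K) := by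
  simp [EtBC.pushToPushPullH, Functor.mapHomotopyCategoryCompIso]
  rfl

/-- The transpose of the comparison on sheaves is the base change morphism in degree zero. -/
theorem pushToPushPull_transpose (w : g' ≫ f = f' ≫ g) (F : EtCoh.Ab X) :
    (EtCoh.pull g).map ((EtBC.pushToPushPull f g f' g' w).app F) ≫ (EtCoh.pullPushAdj g).counit.app _ =
      EtCoh.baseChange0 f g f' g' w F := by
  rw [EtCoh.baseChange0, Adjunction.homEquiv_counit]
  congr 2

/-- **Derived proper base change**, given base change on stalks. -/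
theorem isIso_bcMap (hbc : Shriek.StalkBC.{u}) (h : IsPullback g' f' f g) [IsProper f]
    [PreservesFiniteLimits (EtCoh.pull g)] [PreservesFiniteLimits (EtCoh.pull g')]
    [DCoh.HasRpushEt X f] [DCoh.HasRpushEt X' f'] [DCoh.HasRpushEt S' g]
    (adj : EtBC.pullD g ⊣ DCoh.RpushEt S' g) (E : DCoh.DEt X) (n : ℤ) [E.IsGE n]
    (hE : ∀ i : ℤ, EtCoh.IsTorsion (DCoh.HDEt E i)) :
    IsIso (EtBC.bcMap f g f' g' h.w adj E) := by
  haveI : IsProper f' := MorphismProperty.of_isPullback h inferInstance
  obtain ⟨K, hK, ⟨eK⟩, ht, hac⟩ := exists_torsion_resolution E n hE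
  haveI := hK
  have hac' : ∀ i (q : ℕ), 0 < q → IsZero ((EtCoh.Rpush f' q).obj ((EtCoh.pull g').obj (K.X i))) := fun i q hq =>
    Shriek.isZero_Rpush_pull hbc f f' g g' h (K.X i) (ht i) q (hac f i q hq)
  let M : HomotopyCategory (EtCoh.Ab X) (ComplexShape.up ℤ) := (HomotopyCategory.quotient _ _).obj K
  let eE : DerivedCategory.Qh.obj M ≅ E := (DerivedCategory.quotientCompQhIso _).app K ≪≫ eK
  have hnat : EtBC.bcMap f g f' g' h.w adj E = (EtBC.pullD g).map ((DCoh.RpushEt X f).map eE.inv) ≫
      EtBC.bcMap f g f' g' h.w adj (DerivedCategory.Qh.obj M) ≫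
        (DCoh.RpushEt X' f').map ((EtBC.pullD g').map eE.hom) := by
    rw [EtBC.bcMap, EtBC.bcMap, ← Adjunction.homEquiv_naturality_right_symm,
      ← Adjunction.homEquiv_naturality_left_symm]
    congr 1
    refine Eq.trans ?_ (congrArg (_ ≫ ·) ((EtBC.bcAdj f g f' g' h.w).naturality eE.hom))
    rw [← Category.assoc, ← Functor.map_comp, Iso.inv_hom_id, CategoryTheory.Functor.map_id, Category.id_comp]
  rw [hnat]
  suffices IsIso (EtBC.bcMap f g f' g' h.w adj (DerivedCategory.Qh.obj M)) from inferInstance
  haveI : (EtCoh.push f).IsRightAdjoint := ⟨_, ⟨EtCoh.pullPushAdj f⟩⟩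
  haveI : (EtCoh.push f').IsRightAdjoint := ⟨_, ⟨EtCoh.pullPushAdj f'⟩⟩
  let W := HomotopyCategory.quasiIso (EtCoh.Ab X) (ComplexShape.up ℤ)
  let βf := (DCoh.pushEtKh X f).totalRightDerivedUnit DerivedCategory.Qh W
  let βg := (DCoh.pushEtKh S' g).totalRightDerivedUnit DerivedCategory.Qh
    (HomotopyCategory.quasiIso (EtCoh.Ab S') (ComplexShape.up ℤ))
  let βf' := (DCoh.pushEtKh X' f').totalRightDerivedUnit DerivedCategory.Qh
    (HomotopyCategory.quasiIso (EtCoh.Ab X') (ComplexShape.up ℤ))
  let P := ((EtCoh.pull g').mapHomologicalComplex (ComplexShape.up ℤ)).obj K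
  haveI : CochainComplex.IsStrictlyGE P n := by
    rw [CochainComplex.isStrictlyGE_iff]
    exact fun i hi => (EtCoh.pull g').map_isZero (CochainComplex.isZero_of_isStrictlyGE K n i hi)
  haveI hβf : IsIso (βf.app M) := isIso_unit_of_acyclic (EtCoh.push f) K n fun i q hq => hac f i q hq
  haveI hβf' : IsIso (βf'.app ((HomotopyCategory.quotient _ _).obj P)) :=
    isIso_unit_of_acyclic (EtCoh.push f') P n fun i q hq => hac' i q hq
  let u := (NatTrans.mapHomologicalComplex (EtBC.pushToPushPull f g f' g' h.w) (ComplexShape.up ℤ)).app K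
  let N := ((EtCoh.push f').mapHomologicalComplex (ComplexShape.up ℤ)).obj P
  haveI : QuasiIso (((EtCoh.pull g).mapHomologicalComplex (ComplexShape.up ℤ)).map u ≫
      (H16Derived.mapHomologicalComplexAdj (EtCoh.pullPushAdj g) (ComplexShape.up ℤ)).counit.app N) := by
    haveI : ∀ i, IsIso ((((EtCoh.pull g).mapHomologicalComplex (ComplexShape.up ℤ)).map u ≫
        (H16Derived.mapHomologicalComplexAdj (EtCoh.pullPushAdj g) (ComplexShape.up ℤ)).counit.app N).f i) :=
      fun i => by
        haveI := S0157.result f f' g' g h (K.X i)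
        have e := pushToPushPull_transpose f g f' g' h.w (K.X i)
        have h1 : IsIso ((EtCoh.pull g).map ((EtBC.pushToPushPull f g f' g' h.w).app (K.X i)) ≫
            (EtCoh.pullPushAdj g).counit.app _) := by rw [e]; infer_instance
        simp [H16Derived.mapHomologicalComplexAdj, u, N, P]
        exact h1
    haveI := HomologicalComplex.Hom.isIso_of_components (((EtCoh.pull g).mapHomologicalComplex (ComplexShape.up ℤ)).map u ≫
      (H16Derived.mapHomologicalComplexAdj (EtCoh.pullPushAdj g) (ComplexShape.up ℤ)).counit.app N)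
    infer_instance
  let α := (EtCoh.pull g').mapDerivedCategoryFactorsh
  let y : DerivedCategory.Qh.obj ((HomotopyCategory.quotient _ _).obj N) ⟶
      (DCoh.RpushEt X' f').obj ((EtBC.pullD g').obj (DerivedCategory.Qh.obj M)) :=
    βf'.app ((HomotopyCategory.quotient _ _).obj P) ≫ (DCoh.RpushEt X' f').map (α.inv.app M)
  refine isIso_transpose (EtCoh.pullPushAdj g) adj _ N u (inv (βf.app M)) y _ ?_
  rw [IsIso.eq_inv_comp]
  refine ((DCoh.RpushEt X f).rightDerived_fac_app _ _ _ (EtBC.bcUnit f g f' g' h.w) M).trans ?_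
  have hu := pushToPushPullH_app f g f' g' h.w K
  simp only [EtBC.bcUnit, NatTrans.comp_app, Functor.whiskerRight_app, Functor.whiskerLeft_app,
    Functor.associator_hom_app, Functor.associator_inv_app, Category.id_comp, Category.comp_id]
  rw [hu]
  simp only [y, Functor.map_comp, Category.assoc]
  rfl

end Groth.Agent.H15Site.BCMap
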