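import Groth.Agent.H15Site.FlatAdjD
import Groth.Agent.H16Derived.AcyclicLES
import Mathlib.CategoryTheory.Adjunction.Unique
import Mathlib.Algebra.Homology.Factorizations.CM5a
import Mathlib.Algebra.Homology.HomotopyCategory.KInjective

/-!
# Transposes of morphisms between derived direct images

* The unit of the total right derived functor is invertible at bounded below complexes of acyclic objects.
* For an exact functor `G` left adjoint to `F`, a morphism `W ⟶ RF Z` given on complexes by
  `u : M ⟶ F N` has, under ANY adjunction `G ⊣ RF` on derived categories, an invertible transpose as soon as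
  the transpose of `u` on complexes becomes invertible in the derived category.
-/

set_option autoImplicit false
set_option linter.style.haveILetI false
set_option linter.unusedSectionVars false
set_option backward.isDefEq.respectTransparency false
set_option backward.isDefEq.respectTransparency.types false

open CategoryTheory CategoryTheory.Limits CategoryTheory.Functor DerivedCategory

namespace Groth.Agent.H15Site.BCMap

open H16Derived FlatAdjD

universe w w' v u u'

variable {A : Type u} [Category.{v} A] [Abelian A] [HasDerivedCategory.{w} A]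
  {B : Type u'} [Category.{v} B] [Abelian B] [HasDerivedCategory.{w'} B] [IsGrothendieckAbelian.{v} B]

/-- The unit of `RF` is invertible at bounded below complexes of acyclic objects. -/
theorem isIso_unit_of_acyclic [EnoughInjectives B] (F : B ⥤ A) [F.Additive] [PreservesFiniteLimits F]
    [(toD F).HasRightDerivedFunctor (HomotopyCategory.quasiIso B (ComplexShape.up ℤ))]
    (K : CochainComplex B ℤ) (n : ℤ) [K.IsStrictlyGE n]
    (hK : ∀ i, AcyclicLES.IsAcyclic F (K.X i)) :
    IsIso (((toD F).totalRightDerivedUnit DerivedCategory.Qh
      (HomotopyCategory.quasiIso B (ComplexShape.up ℤ))).app ((HomotopyCategory.quotient _ _).obj K)) := by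
  let W₂ := HomotopyCategory.quasiIso B (ComplexShape.up ℤ)
  let R := (toD F).totalRightDerived DerivedCategory.Qh W₂
  let β := (toD F).totalRightDerivedUnit DerivedCategory.Qh W₂
  haveI : (toD F).HasPointwiseRightDerivedFunctor W₂ :=
    RDerived.hasPointwiseRightDerivedFunctor_of_resolutions DerivedCategory.Qh _ _ fun M => by
      obtain ⟨I, hI, s, hs⟩ := exists_local M
      exact ⟨_, s, hs, fun K => CochainComplex.IsKInjective.Qh_map_bijective K I⟩
  obtain ⟨I, i, hi, hinj, hge⟩ := CochainComplex.Plus.modelCategoryQuillen.exists_quasiIso_injective K n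
  haveI : ∀ k, Injective (I.X k) := hinj
  haveI := CochainComplex.isKInjective_of_injective I n
  haveI : QuasiIso ((F.mapHomologicalComplex (ComplexShape.up ℤ)).map i) :=
    AcyclicLES.quasiIso_map F i n hK fun k => AcyclicLES.isAcyclic_of_injective F _
  haveI hI : IsIso (β.app ((HomotopyCategory.quotient _ _).obj I)) :=
    RDerived.isIso_unit_app_of_bijective DerivedCategory.Qh W₂ _ _ β _
      fun K => CochainComplex.IsKInjective.Qh_map_bijective K I
  have hq : ∀ {C : Type u} [Category.{v} C] [Abelian C] [HasDerivedCategory.{w} C] {P Q : CochainComplex C ℤ}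
      (φ : P ⟶ Q) [QuasiIso φ], IsIso (DerivedCategory.Qh.map ((HomotopyCategory.quotient _ _).map φ)) :=
    fun {C} _ _ _ {P Q} φ _ => (NatIso.isIso_map_iff (DerivedCategory.quotientCompQhIso C) φ).2
      ((DerivedCategory.isIso_Q_map_iff_quasiIso C φ).2 inferInstance)
  haveI h1 : IsIso (R.map (DerivedCategory.Qh.map ((HomotopyCategory.quotient _ _).map i))) := by
    haveI : IsIso (DerivedCategory.Qh.map ((HomotopyCategory.quotient _ _).map i)) :=
      (NatIso.isIso_map_iff (DerivedCategory.quotientCompQhIso B) i).2
        ((DerivedCategory.isIso_Q_map_iff_quasiIso B i).2 inferInstance)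
    infer_instance
  haveI h2 : IsIso ((toD F).map ((HomotopyCategory.quotient _ _).map i)) :=
    hq ((F.mapHomologicalComplex (ComplexShape.up ℤ)).map i)
  have e := β.naturality ((HomotopyCategory.quotient _ _).map i)
  haveI : IsIso ((toD F).map ((HomotopyCategory.quotient _ _).map i) ≫
      β.app ((HomotopyCategory.quotient _ _).obj I)) := inferInstance
  rw [e] at this
  exact @IsIso.of_isIso_comp_right _ _ _ _ _ _ (R.map (DerivedCategory.Qh.map ((HomotopyCategory.quotient _ _).map i))) h1 this

variable {G : A ⥤ B} [G.Additive] [PreservesFiniteLimits G] [PreservesFiniteColimits G]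
  {F : B ⥤ A} [F.Additive]

/-- The counit of the adjunction on homotopy categories. -/
theorem homotopyAdj_counit_app (adj : G ⊣ F) (K : CochainComplex B ℤ) :
    (homotopyAdj adj).counit.app ((HomotopyCategory.quotient _ _).obj K) =
      (HomotopyCategory.quotient _ _).map ((mapHomologicalComplexAdj adj (ComplexShape.up ℤ)).counit.app K) := by
  rw [homotopyAdj, Adjunction.localization_counit_app]
  simp [CatCommSq.iso]
  erw [CategoryTheory.Functor.map_id, Category.id_comp, Category.id_comp]

/-- Invertibility of transposes under any derived adjunction. -/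
theorem isIso_transpose [(toD F).HasRightDerivedFunctor (HomotopyCategory.quasiIso B (ComplexShape.up ℤ))]
    (adj₀ : G ⊣ F)
    (adj : G.mapDerivedCategory ⊣
      (toD F).totalRightDerived DerivedCategory.Qh (HomotopyCategory.quasiIso B (ComplexShape.up ℤ)))
    (M : CochainComplex A ℤ) (N : CochainComplex B ℤ) (u : M ⟶ (F.mapHomologicalComplex (ComplexShape.up ℤ)).obj N)
    [QuasiIso ((G.mapHomologicalComplex (ComplexShape.up ℤ)).map u ≫
      (mapHomologicalComplexAdj adj₀ (ComplexShape.up ℤ)).counit.app N)]
    {W : DerivedCategory A} (x : W ⟶ DerivedCategory.Qh.obj ((HomotopyCategory.quotient _ _).obj M)) [IsIso x]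
    {Z : DerivedCategory B} (y : DerivedCategory.Qh.obj ((HomotopyCategory.quotient _ _).obj N) ⟶ Z) [IsIso y]
    (v : W ⟶ ((toD F).totalRightDerived DerivedCategory.Qh (HomotopyCategory.quasiIso B (ComplexShape.up ℤ))).obj Z)
    (hv : v = x ≫ DerivedCategory.Qh.map ((HomotopyCategory.quotient _ _).map u) ≫
      ((toD F).totalRightDerivedUnit DerivedCategory.Qh (HomotopyCategory.quasiIso B (ComplexShape.up ℤ))).app
          ((HomotopyCategory.quotient _ _).obj N) ≫
        ((toD F).totalRightDerived DerivedCategory.Qh (HomotopyCategory.quasiIso B (ComplexShape.up ℤ))).map y) :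
    IsIso ((adj.homEquiv W Z).symm v) := by
  let W₁ := HomotopyCategory.quasiIso A (ComplexShape.up ℤ)
  let W₂ := HomotopyCategory.quasiIso B (ComplexShape.up ℤ)
  let R := (toD F).totalRightDerived DerivedCategory.Qh W₂
  let β := (toD F).totalRightDerivedUnit DerivedCategory.Qh W₂
  haveI : (toD F).HasPointwiseRightDerivedFunctor W₂ :=
    RDerived.hasPointwiseRightDerivedFunctor_of_resolutions DerivedCategory.Qh _ _ fun M => by
      obtain ⟨I, hI, s, hs⟩ := exists_local M
      exact ⟨_, s, hs, fun K => CochainComplex.IsKInjective.Qh_map_bijective K I⟩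
  let α := G.mapDerivedCategoryFactorsh.hom
  haveI : G.mapDerivedCategory.IsLeftDerivedFunctor α W₁ :=
    Functor.isLeftDerivedFunctor_of_inverts W₁ G.mapDerivedCategory G.mapDerivedCategoryFactorsh
  haveI : (G.mapDerivedCategory ⋙ R).IsLeftDerivedFunctor
      ((Functor.associator _ _ _).inv ≫ whiskerRight α R) W₁ :=
    Functor.isLeftDerivedFunctor_of_inverts W₁ (G.mapDerivedCategory ⋙ R)
      ((Functor.associator _ _ _).symm ≪≫ Functor.isoWhiskerRight G.mapDerivedCategoryFactorsh R)
  haveI : (R ⋙ G.mapDerivedCategory).IsRightDerivedFunctor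
      (whiskerRight β G.mapDerivedCategory ≫ (Functor.associator _ _ _).hom) W₂ := by
    refine RDerived.isRightDerivedFunctor_of_isIso_local _ _ _ _ _ fun M => ?_
    obtain ⟨I, hI, s, hs⟩ := exists_local M
    refine ⟨_, s, hs, fun K => CochainComplex.IsKInjective.Qh_map_bijective K I, ?_⟩
    haveI : IsIso (β.app ((HomotopyCategory.quotient _ _).obj I)) :=
      RDerived.isIso_unit_app_of_bijective DerivedCategory.Qh W₂ _ _ β _
        fun K => CochainComplex.IsKInjective.Qh_map_bijective K I
    simp only [NatTrans.comp_app, associator_hom_app, whiskerRight_app]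
    infer_instance
  let adjD : G.mapDerivedCategory ⊣ R := (homotopyAdj adj₀).derived W₁ W₂ α β
  have huniq : (adj.homEquiv W Z).symm v =
      (adj.leftAdjointUniq adjD).hom.app W ≫ (adjD.homEquiv W Z).symm v := by
    apply (adj.homEquiv W Z).injective
    rw [Equiv.apply_symm_apply, Adjunction.homEquiv_naturality_right,
      Adjunction.homEquiv_leftAdjointUniq_hom_app, adjD.homEquiv_counit, Functor.map_comp]
    refine Eq.symm ?_
    rw [← Category.assoc]
    erw [adjD.unit_naturality v, Category.assoc, adjD.right_triangle_components, Category.comp_id]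
  rw [huniq]
  suffices IsIso ((adjD.homEquiv W Z).symm v) from inferInstance
  have key : (adjD.homEquiv W Z).symm v = G.mapDerivedCategory.map x ≫
      α.app ((HomotopyCategory.quotient _ _).obj M) ≫
      DerivedCategory.Qh.map ((HomotopyCategory.quotient _ _).map ((G.mapHomologicalComplex (ComplexShape.up ℤ)).map u ≫
        (mapHomologicalComplexAdj adj₀ (ComplexShape.up ℤ)).counit.app N)) ≫ y := by
    rw [hv, ← Category.assoc (DerivedCategory.Qh.map _), adjD.homEquiv_naturality_left_symm,
      Adjunction.homEquiv_naturality_right_symm, adjD.homEquiv_counit, Functor.map_comp]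
    simp only [Category.assoc]
    congr 1
    have h1 : G.mapDerivedCategory.map (β.app ((HomotopyCategory.quotient _ _).obj N)) ≫
        adjD.counit.app (DerivedCategory.Qh.obj ((HomotopyCategory.quotient _ _).obj N)) =
        α.app ((F.mapHomotopyCategory (ComplexShape.up ℤ)).obj ((HomotopyCategory.quotient _ _).obj N)) ≫
          DerivedCategory.Qh.map ((homotopyAdj adj₀).counit.app ((HomotopyCategory.quotient _ _).obj N)) :=
      (homotopyAdj adj₀).derivedε_fac_app W₂ α β _
    have h2 : DerivedCategory.Qh.map ((G.mapHomotopyCategory (ComplexShape.up ℤ)).map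
        ((HomotopyCategory.quotient _ _).map u)) ≫
          DerivedCategory.Qh.map ((homotopyAdj adj₀).counit.app ((HomotopyCategory.quotient _ _).obj N)) =
        DerivedCategory.Qh.map ((HomotopyCategory.quotient _ _).map ((G.mapHomologicalComplex (ComplexShape.up ℤ)).map u ≫
          (mapHomologicalComplexAdj adj₀ (ComplexShape.up ℤ)).counit.app N)) := by
      rw [homotopyAdj_counit_app, ← Functor.map_comp, Functor.map_comp (HomotopyCategory.quotient _ _)]
      rfl
    rw [← h2]
    erw [← Category.assoc (G.mapDerivedCategory.map (β.app _)), h1]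
    simp only [Category.assoc]
    erw [← Category.assoc, α.naturality]
    simp only [Category.assoc]
    rfl
  rw [key]
  haveI : IsIso (DerivedCategory.Qh.map ((HomotopyCategory.quotient _ _).map
      ((G.mapHomologicalComplex (ComplexShape.up ℤ)).map u ≫
        (mapHomologicalComplexAdj adj₀ (ComplexShape.up ℤ)).counit.app N))) :=
    (NatIso.isIso_map_iff (DerivedCategory.quotientCompQhIso B) _).2
      ((DerivedCategory.isIso_Q_map_iff_quasiIso B _).2 inferInstance)
  infer_instance

end Groth.Agent.H15Site.BCMap
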