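import Groth.Agent.H15Site.BCMap.Bounded
import Groth.Agent.H15Site.BCMap.TorsRes
import Groth.Agent.H15Site.BCMap.Transpose
import Groth.Agent.H15Site.Shriek.CdProper
import Groth.Agent.H15Site.RDerPlus
import Groth.Prelude.Def_DEt2

/-!
# Boundedness of direct images with proper support, given base change on stalks
-/

set_option autoImplicit false
set_option linter.style.haveILetI false
set_option linter.unusedSectionVars false
set_option backward.isDefEq.respectTransparency false
set_option backward.isDefEq.respectTransparency.types false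

universe u

open CategoryTheory CategoryTheory.Limits AlgebraicGeometry Opposite
open scoped Groth.Agent.H18Et

namespace Groth.Agent.H15Site.BCMap

attribute [local instance] HasDerivedCategory.standard Groth.Agent.H18Et.pull_preservesFiniteLimits

/-- Subsheaves of torsion sheaves are torsion. -/
theorem isTorsion_of_mono {X : Scheme.{u}} {F G : EtCoh.Ab X} (m : F ⟶ G) [Mono m] (hG : EtCoh.IsTorsion G) :
    EtCoh.IsTorsion F := by
  rw [H18Et.Coh.isTorsion_iff_stalk] at hG ⊢
  intro Ω _ _ ξ x
  have hinj := (AddCommGrpCat.mono_iff_injective ((EtCoh.stalk ξ).map m)).1 inferInstance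
  obtain ⟨k, hk, h⟩ := isOfFinAddOrder_iff_nsmul_eq_zero.1 (hG Ω ξ ((EtCoh.stalk ξ).map m x))
  refine isOfFinAddOrder_iff_nsmul_eq_zero.2 ⟨k, hk, hinj ?_⟩
  rw [map_nsmul, h, map_zero]

/-- The homology of the image under an exact functor. -/
theorem nonempty_homology_mapDerivedCategory {C D : Type*} [Category C] [Abelian C] [HasDerivedCategory C]
    [Category D] [Abelian D] [HasDerivedCategory D] (G : C ⥤ D) [G.Additive] [PreservesFiniteLimits G]
    [PreservesFiniteColimits G] (E : DerivedCategory C) (i : ℤ) :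
    Nonempty ((DerivedCategory.homologyFunctor D i).obj (G.mapDerivedCategory.obj E) ≅
      G.obj ((DerivedCategory.homologyFunctor C i).obj E)) := by
  let K := DerivedCategory.Q.objPreimage E
  let e : DerivedCategory.Q.obj K ≅ E := DerivedCategory.Q.objObjPreimageIso E
  let e' : ((G.mapHomologicalComplex (ComplexShape.up ℤ)).obj K).homology i ≅ G.obj (K.homology i) :=
    (K.sc i).mapHomologyIso G
  exact ⟨(DerivedCategory.homologyFunctor D i).mapIso (G.mapDerivedCategory.mapIso e.symm ≪≫
      (G.mapDerivedCategoryFactors.app K)) ≪≫ (DerivedCategory.homologyFunctorFactors D i).app _ ≪≫ e' ≪≫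
    G.mapIso (((DerivedCategory.homologyFunctorFactors C i).app K).symm ≪≫
      (DerivedCategory.homologyFunctor C i).mapIso e)⟩

/-- `Rp_*` of a torsion object with amplitude in `[a, b]` has amplitude in `[a, b + 2d]`. -/
theorem isZero_homology_Rpush (hbc : Shriek.StalkBC.{u}) {P S : Scheme.{u}} (p : P ⟶ S) [IsProper p]
    [DCoh.HasRpushEt P p] (d : ℕ) (hdim : ∀ s : S, topologicalKrullDim (p.fiber s) ≤ d)
    (E : DCoh.DEt P) (hE : ∀ i : ℤ, EtCoh.IsTorsion (DCoh.HDEt E i)) (a b : ℤ)
    (hab : ∀ i : ℤ, i < a ∨ b < i → IsZero (DCoh.HDEt E i)) (i : ℤ) (hi : i < a ∨ b + (2 * d : ℕ) < i) :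
    IsZero (DCoh.HDEt ((DCoh.RpushEt P p).obj E) i) := by
  haveI : E.IsGE a := (DerivedCategory.isGE_iff E a).2 fun j hj => hab j (Or.inl hj)
  obtain ⟨K, hK, ⟨eK⟩, ht, hac⟩ := exists_torsion_resolution E a hE
  haveI := hK
  haveI : (EtCoh.push p).IsRightAdjoint := ⟨_, ⟨EtCoh.pullPushAdj p⟩⟩
  haveI := isIso_unit_of_acyclic (EtCoh.push p) K a fun j q hq => hac p j q hq
  rcases hi with hi | hi
  · haveI := RDerPlus.isGE_obj (EtCoh.push p) E a
    exact DerivedCategory.isZero_of_isGE ((DCoh.RpushEt P p).obj E) a i hi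
  let W := HomotopyCategory.quasiIso (EtCoh.Ab P) (ComplexShape.up ℤ)
  let β := (DCoh.pushEtKh P p).totalRightDerivedUnit DerivedCategory.Qh W
  let M : HomotopyCategory (EtCoh.Ab P) (ComplexShape.up ℤ) := (HomotopyCategory.quotient _ _).obj K
  let e : (DCoh.RpushEt P p).obj E ≅
      DerivedCategory.Q.obj (((EtCoh.push p).mapHomologicalComplex (ComplexShape.up ℤ)).obj K) :=
    (DCoh.RpushEt P p).mapIso (((DerivedCategory.quotientCompQhIso _).app K ≪≫ eK).symm) ≪≫
      (asIso (β.app M)).symm ≪≫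
      DerivedCategory.Qh.mapIso (((EtCoh.push p).mapHomotopyCategoryFactors (ComplexShape.up ℤ)).app K) ≪≫
      (DerivedCategory.quotientCompQhIso _).app _
  have hex : ∀ j, b < j → K.ExactAt j := fun j hj => by
    rw [HomologicalComplex.exactAt_iff_isZero_homology]
    exact (hab j (Or.inr hj)).of_iso (((DerivedCategory.homologyFunctorFactors _ j).app K).symm ≪≫
      (DerivedCategory.homologyFunctor _ j).mapIso eK)
  have h := exactAt_map_of_cdBound (EtCoh.push p) K b (2 * d) hex (fun j q hq => hac p j q hq)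
    (fun q hq => Shriek.isZero_Rpush_of_dim hbc p d hdim _ (isTorsion_of_mono (K.iCycles b) (ht b)) q hq) i hi
  rw [HomologicalComplex.exactAt_iff_isZero_homology] at h
  exact h.of_iso ((DerivedCategory.homologyFunctor _ i).mapIso e ≪≫
    (DerivedCategory.homologyFunctorFactors _ i).app _)

/-- **Boundedness of `Rf_!`**, given base change on stalks. -/
theorem exists_bound_Rshriek (hbc : Shriek.StalkBC.{u}) {X Y : Scheme.{u}} [CompactSpace ↥Y] {f : X ⟶ Y}
    (c : DEt.Compactification f) [PreservesFiniteLimits (EtShriek.extZero c.j)]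
    [DCoh.HasRpushEt c.Xbar c.fbar] :
    ∃ N : ℕ, ∀ (E : DCoh.DEt X), (∀ n : ℤ, EtCoh.IsTorsion (DCoh.HDEt E n)) → ∀ a b : ℤ,
      (∀ i : ℤ, i < a ∨ b < i → IsZero (DCoh.HDEt E i)) →
        ∀ i : ℤ, i < a ∨ b + N < i → IsZero (DCoh.HDEt ((DEt.Rshriek c).obj E) i) := by
  haveI : CompactSpace ↥c.Xbar := QuasiCompact.compactSpace_of_compactSpace c.fbar
  obtain ⟨d, hd⟩ := Shriek.exists_dim_bound c.fbar
  refine ⟨2 * d, fun E hE a b hab i hi => ?_⟩
  refine isZero_homology_Rpush hbc c.fbar d hd ((DEt.extZeroD c.j).obj E) (fun j => ?_) a b (fun j hj => ?_) i hi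
  · obtain ⟨e⟩ := nonempty_homology_mapDerivedCategory (EtShriek.extZero c.j) E j
    exact H18Et.Coh.isTorsion_of_iso e.symm (H18Et.Coh.isTorsion_of_iso
      ((Shriek.extZeroIso c.j).app _).symm (Shriek.isTorsion_lowerShriek c.j _ (hE j)))
  · obtain ⟨e⟩ := nonempty_homology_mapDerivedCategory (EtShriek.extZero c.j) E j
    haveI : (EtShriek.extZero c.j).Additive := inferInstance
    exact ((EtShriek.extZero c.j).map_isZero (hab j hj)).of_iso e

end Groth.Agent.H15Site.BCMap
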