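import Mathlib.Algebra.Homology.ShortComplex.Ab
import Mathlib.Algebra.Category.Grp.Abelian
import Mathlib.Algebra.Category.Grp.EpiMono
import Mathlib.GroupTheory.OrderOfElement

/-!
# The torsion subcomplex of a complex of divisible groups with torsion cohomology

The inclusion of the torsion parts is a quasi-isomorphism.
-/

set_option autoImplicit false
set_option linter.style.haveILetI false
set_option backward.isDefEq.respectTransparency false
set_option backward.isDefEq.respectTransparency.types false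

universe u

open CategoryTheory CategoryTheory.Limits

namespace Groth.Agent.H15Site.BCMap

theorem isOfFinAddOrder_of_nsmul {G : Type*} [AddMonoid G] {a : G} {k : ℕ} (hk : 0 < k)
    (h : IsOfFinAddOrder (k • a)) : IsOfFinAddOrder a := by
  obtain ⟨m, hm, hma⟩ := isOfFinAddOrder_iff_nsmul_eq_zero.1 h
  exact isOfFinAddOrder_iff_nsmul_eq_zero.2 ⟨m * k, Nat.mul_pos hm hk, by rw [mul_nsmul', hma]⟩

variable {S S' : ShortComplex AddCommGrpCat.{u}} (ψ : S ⟶ S')

theorem exists_cycles (T : ShortComplex AddCommGrpCat.{u}) (a : T.X₂) (ha : T.g a = 0) :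
    ∃ z : T.cycles, T.iCycles z = a :=
  ⟨T.abCyclesIso.inv (⟨a, ha⟩ : AddMonoidHom.ker T.g.hom), T.abCyclesIso_inv_apply_iCycles _⟩

theorem homologyπ_eq_zero_iff (T : ShortComplex AddCommGrpCat.{u}) (z : T.cycles) :
    T.homologyπ z = 0 ↔ ∃ x : T.X₁, T.f x = T.iCycles z := by
  constructor
  · intro h
    have hex : (ShortComplex.mk T.toCycles T.homologyπ (T.toCycles_comp_homologyπ)).Exact :=
      ShortComplex.exact_of_g_is_cokernel _ T.homologyIsCokernel
    obtain ⟨x, hx⟩ := (ShortComplex.ab_exact_iff _).1 hex z h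
    refine ⟨x, ?_⟩
    rw [← hx]
    exact (ConcreteCategory.congr_hom T.toCycles_i x).symm
  · rintro ⟨x, hx⟩
    have : z = T.toCycles x := (AddCommGrpCat.mono_iff_injective T.iCycles).1 inferInstance
      (hx.symm.trans (ConcreteCategory.congr_hom T.toCycles_i x).symm)
    rw [this, ← ConcreteCategory.comp_apply, T.toCycles_comp_homologyπ]
    rfl

theorem isIso_homologyMap_torsion {X₀ : AddCommGrpCat.{u}} (e : X₀ ⟶ S'.X₁) (he : e ≫ S'.f = 0)
    (hdiv₀ : ∀ n : ℕ, 0 < n → ∀ a : X₀, ∃ b, n • b = a)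
    (hdiv₁ : ∀ n : ℕ, 0 < n → ∀ a : S'.X₁, ∃ b, n • b = a)
    (h₀ : ∀ y : S'.X₁, S'.f y = 0 → ∃ k : ℕ, 0 < k ∧ ∃ w : X₀, e w = k • y)
    (htor : ∀ x : S'.homology, IsOfFinAddOrder x)
    (ht₂ : ∀ a : S.X₂, IsOfFinAddOrder a)
    (hr₁ : ∀ p : S'.X₁, IsOfFinAddOrder p → ∃ a, ψ.τ₁ a = p)
    (hr₂ : ∀ p : S'.X₂, IsOfFinAddOrder p → ∃ a, ψ.τ₂ a = p)
    (hi₂ : Function.Injective ψ.τ₂) (hi₃ : Function.Injective ψ.τ₃) :
    IsIso (ShortComplex.homologyMap ψ) := by
  have nat : ∀ z : S.cycles, ShortComplex.homologyMap ψ (S.homologyπ z) =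
      S'.homologyπ (ShortComplex.cyclesMap ψ z) := fun z => by
    rw [← ConcreteCategory.comp_apply, ShortComplex.homologyπ_naturality, ConcreteCategory.comp_apply]
  have nat₁ : ∀ x : S.X₁, S'.f (ψ.τ₁ x) = ψ.τ₂ (S.f x) := fun x =>
    ConcreteCategory.congr_hom ψ.comm₁₂ x
  have nat₂ : ∀ x : S.X₂, S'.g (ψ.τ₂ x) = ψ.τ₃ (S.g x) := fun x =>
    ConcreteCategory.congr_hom ψ.comm₂₃ x
  rw [ConcreteCategory.isIso_iff_bijective]
  refine ⟨(injective_iff_map_eq_zero _).2 fun c hc => ?_, fun c => ?_⟩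
  · obtain ⟨z, rfl⟩ := (AddCommGrpCat.epi_iff_surjective S.homologyπ).1 inferInstance c
    rw [nat, homologyπ_eq_zero_iff] at hc
    obtain ⟨y, hy⟩ := hc
    have hy' : S'.f y = ψ.τ₂ (S.iCycles z) :=
      hy.trans (ConcreteCategory.congr_hom (ShortComplex.cyclesMap_i ψ) z)
    obtain ⟨m, hm, hma⟩ := isOfFinAddOrder_iff_nsmul_eq_zero.1 (ht₂ (S.iCycles z))
    obtain ⟨k, hk, w, hw⟩ := h₀ (m • y) (by rw [map_nsmul, hy', ← map_nsmul, hma, map_zero])
    obtain ⟨w', rfl⟩ := hdiv₀ (k * m) (Nat.mul_pos hk hm) w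
    have htors : IsOfFinAddOrder (y - e w') := by
      refine isOfFinAddOrder_of_nsmul (Nat.mul_pos hk hm) ?_
      rw [nsmul_sub, ← map_nsmul, hw, ← mul_nsmul', sub_self]
      exact IsOfFinAddOrder.zero
    obtain ⟨a, ha⟩ := hr₁ _ htors
    refine (homologyπ_eq_zero_iff S z).2 ⟨a, hi₂ ?_⟩
    rw [← nat₁, ha, map_sub, ← ConcreteCategory.comp_apply, he]
    exact (sub_zero _).trans hy'
  · obtain ⟨z, rfl⟩ := (AddCommGrpCat.epi_iff_surjective S'.homologyπ).1 inferInstance c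
    obtain ⟨m, hm, hma⟩ := isOfFinAddOrder_iff_nsmul_eq_zero.1 (htor (S'.homologyπ z))
    rw [← map_nsmul, homologyπ_eq_zero_iff] at hma
    obtain ⟨y, hy⟩ := hma
    obtain ⟨y', rfl⟩ := hdiv₁ m hm y
    rw [map_nsmul, map_nsmul] at hy
    have htors : IsOfFinAddOrder (S'.iCycles z - S'.f y') := by
      refine isOfFinAddOrder_of_nsmul hm ?_
      rw [nsmul_sub, hy, sub_self]
      exact IsOfFinAddOrder.zero
    obtain ⟨a, ha⟩ := hr₂ _ htors
    have hga : S.g a = 0 := hi₃ (by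
      rw [← nat₂, ha, map_zero, map_sub, ← ConcreteCategory.comp_apply, ← ConcreteCategory.comp_apply,
        S'.iCycles_g, S'.zero]
      exact sub_self _)
    obtain ⟨z₀, rfl⟩ := exists_cycles S a hga
    refine ⟨S.homologyπ z₀, ?_⟩
    rw [nat, ← sub_eq_zero, ← map_sub, homologyπ_eq_zero_iff]
    refine ⟨- y', ?_⟩
    rw [map_neg, map_sub, ← ConcreteCategory.comp_apply, ShortComplex.cyclesMap_i, ConcreteCategory.comp_apply, ha]
    abel

end Groth.Agent.H15Site.BCMap
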